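import Groth.Agent.Lib.CurveOm17.AnyField
import Groth.Agent.Lib.CurveCoh17.LES
import Groth.Agent.Lib.SurfRR10.Proj
import Groth.Agent.Lib.RigidRel.Const
import Groth.Agent.Lib.AmpleFin18.PushEuler
import Groth.Agent.Lib.TensorMod.IdealMod

/-!
# Connectedness of a closed subscheme and the first cohomology of its ideal
-/

set_option autoImplicit false
set_option linter.style.haveILetI false

universe u

open CategoryTheory TopologicalSpace Opposite CategoryTheory.Limits AlgebraicGeometry

namespace Groth.Agent.ConnH18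

open Groth.Agent.M1 Groth.Agent.M2 Groth.Agent.CurveCoh17

variable (k : Type u) [Field k] [IsAlgClosed k] {X : Scheme.{u}} [X.Over (Spec (CommRingCat.of k))]
  [IsProper (X ↘ Spec (CommRingCat.of k))] (D : X.IdealSheafData)

omit [IsAlgClosed k] in
theorem isProper_of_proj {X : Scheme.{u}} [X.Over (Spec (CommRingCat.of k))]
    (hproj : ∃ (n : ℕ) (ι : X ⟶ CohB1.ProjSpace n k), IsClosedImmersion ι ∧
      ι ≫ CohB1.ProjSpace.toSpec n k = (X ↘ (Spec (CommRingCat.of k)))) :
    IsProper (X ↘ Spec (CommRingCat.of k)) := by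
  obtain ⟨n, ι, hι, h⟩ := hproj
  haveI : IsProper (CohB1.ProjSpace.toSpec n k) := ProjSpace.isProper_toSpec n k
  rw [← h]
  infer_instance

theorem shortExact : (ShortComplex.mk (ClSub.idealModι D) (ClSub.toSubscheme D) (kernel.condition _)).ShortExact :=
  M2.shortExact_idealMod D

include k in
theorem connectedSpace [IsIntegral X] (hne : Nonempty ↥D.subscheme)
    (hvan : Subsingleton (Coh.HH X (ClSub.idealMod D) 1)) : ConnectedSpace ↥D.subscheme := by
  let ι := D.subschemeι
  letI : D.subscheme.Over (Spec (CommRingCat.of k)) := ⟨ι ≫ (X ↘ Spec (CommRingCat.of k))⟩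
  haveI : IsProper (D.subscheme ↘ Spec (CommRingCat.of k)) :=
    inferInstanceAs (IsProper (ι ≫ (X ↘ Spec (CommRingCat.of k))))
  obtain ⟨e⟩ := AmpleFin18.nonempty_HH_push (k := k) ι rfl _ (M1.isQCoh_structureModule D.subscheme) 0
  have hsurj : Function.Surjective (hmap k (ClSub.toSubscheme D) 0) := fun y =>
    ((exact_hmap_hdelta k (shortExact D) 0) y).1 (@Subsingleton.elim _ hvan _ _)
  haveI : IsNoetherian X := CohFound.isNoetherian_of_isProper (X ↘ (Spec (CommRingCat.of k)))
  haveI : IsNoetherian D.subscheme := CohFound.isNoetherian_of_isProper (D.subscheme ↘ (Spec (CommRingCat.of k)))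
  haveI : Module.Finite k (Coh.HH X (Coh.structureModule X) 0) :=
    CohFound.finite_HH_of_isProper _ (M1.isCoh_structureModule X) 0
  haveI : Module.Finite k (Coh.HH D.subscheme (Coh.structureModule D.subscheme) 0) :=
    CohFound.finite_HH_of_isProper _ (M1.isCoh_structureModule D.subscheme) 0
  have h1 := LinearMap.finrank_le_finrank_of_surjective hsurj
  rw [SurfRR10.finrank_h0_eq_one (k := k)] at h1
  have h2 : Module.finrank k (Coh.HH X (ClSub.quotMod D) 0) =
      Module.finrank k (Coh.HH D.subscheme (Coh.structureModule D.subscheme) 0) := e.finrank_eq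
  haveI : Nontrivial (Coh.HH D.subscheme (Coh.structureModule D.subscheme) 0) :=
    (hh0 (Coh.structureModule D.subscheme)).toEquiv.nontrivial_congr.2
      (show Nontrivial Γ(D.subscheme, ⊤) from by
        haveI : Nonempty (⊤ : D.subscheme.Opens) := ⟨⟨hne.some, trivial⟩⟩; infer_instance)
  exact CurveOm17.connectedSpace_of_h0 (le_antisymm (h2 ▸ h1) Module.finrank_pos)

include k in
theorem h1_idealMod_subsingleton (hH1 : Subsingleton (Coh.HH X (Coh.structureModule X) 1))
    [ConnectedSpace ↥D.subscheme] [IsReduced D.subscheme] :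
    Subsingleton (Coh.HH X (ClSub.idealMod D) 1) := by
  let ι := D.subschemeι
  letI : D.subscheme.Over (Spec (CommRingCat.of k)) := ⟨ι ≫ (X ↘ Spec (CommRingCat.of k))⟩
  haveI : IsProper (D.subscheme ↘ Spec (CommRingCat.of k)) :=
    inferInstanceAs (IsProper (ι ≫ (X ↘ Spec (CommRingCat.of k))))
  haveI : IsNoetherian X := CohFound.isNoetherian_of_isProper (X ↘ (Spec (CommRingCat.of k)))
  haveI : IsNoetherian D.subscheme := CohFound.isNoetherian_of_isProper (D.subscheme ↘ (Spec (CommRingCat.of k)))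
  obtain ⟨e⟩ := AmpleFin18.nonempty_HH_push (k := k) ι rfl _ (M1.isQCoh_structureModule D.subscheme) 0
  let F := Coh.structureModule D.subscheme
  letI : Algebra k Γ(D.subscheme, ⊤) := (Coh.toGlobal (D.subscheme ↘ Spec (CommRingCat.of k))).toAlgebra
  haveI : Module.Finite k (Coh.HH D.subscheme F 0) :=
    CohFound.finite_HH_of_isProper _ (M1.isCoh_structureModule D.subscheme) 0
  let e0 : Coh.HH D.subscheme F 0 ≃+ Γ(D.subscheme, ⊤) := hh0 F
  let el : Coh.HH D.subscheme F 0 ≃ₗ[k] Γ(D.subscheme, ⊤) :=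
    { e0 with map_smul' := fun c x => hh0_smul (M := F) _ x }
  haveI : Module.Finite k Γ(D.subscheme, ⊤) := Module.Finite.equiv el
  haveI : Nonempty (⊤ : D.subscheme.Opens) := ⟨⟨(inferInstance : Nonempty D.subscheme).some, trivial⟩⟩
  haveI : Nontrivial Γ(D.subscheme, ⊤) := inferInstance
  have hb : Function.Bijective (algebraMap k Γ(D.subscheme, ⊤)) :=
    ⟨(algebraMap k Γ(D.subscheme, ⊤)).injective, RigidRel.surjective_algebraMap_of_integral⟩
  have h1 : Module.finrank k (Coh.HH X (ClSub.quotMod D) 0) = 1 := by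
    refine (e.finrank_eq : _ = Module.finrank k (Coh.HH D.subscheme F 0)).trans ?_
    rw [el.finrank_eq, ← (LinearEquiv.ofBijective (Algebra.linearMap k _) hb).finrank_eq, Module.finrank_self]
  let x₁ : Coh.HH X (Coh.structureModule X) 0 := (hh0 (Coh.structureModule X)).symm (one ⊤)
  have hne : hmap k (ClSub.toSubscheme D) 0 x₁ ≠ 0 := by
    intro h
    have h' := congrArg (hh0 (ClSub.quotMod D)) h
    rw [hh0_hmap, AddEquiv.apply_symm_apply, map_zero] at h'
    have h'' : (1 : Γ(D.subscheme, ⊤)) = 0 := by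
      rw [← map_one ι.appTop.hom]
      exact h'
    exact one_ne_zero h''
  have hsurj : Function.Surjective (hmap k (ClSub.toSubscheme D) 0) := by
    intro y
    obtain ⟨c, hc⟩ := (finrank_eq_one_iff_of_nonzero' _ hne).1 h1 y
    exact ⟨c • x₁, by rw [map_smul, hc]⟩
  refine ⟨fun a b => ?_⟩
  have key : ∀ a : Coh.HH X (ClSub.idealMod D) 1, a = 0 := fun a => by
    obtain ⟨y, rfl⟩ := ((exact_hdelta_hmap k (shortExact D) 0) a).1 (@Subsingleton.elim _ hH1 _ _)
    obtain ⟨z, rfl⟩ := hsurj y
    exact ((exact_hmap_hdelta k (shortExact D) 0) _).2 ⟨z, rfl⟩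
  rw [key a, key b]

end Groth.Agent.ConnH18
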